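import Groth.Agent.S10599
import Groth.Agent.H53.Deform.FinLocFree
import Groth.Agent.H53.Deform.Mono
import Groth.Agent.H50.LfpCancel
import Groth.Agent.H50.Charts

/-!
# Deformation of isomorphisms, open immersions, monomorphisms and finite locally free morphisms
along thickenings, in the "flat + finitely presented over finite type" situation.
-/

set_option autoImplicit false
universe u
open CategoryTheory CategoryTheory.Limits AlgebraicGeometry Opposite
open AlgSp

namespace Groth.Agent.H53.DeformFP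

variable {S : Scheme.{u}}

variable {X X' Y Y' B B' : AlgSp.Space S} (iX : X ⟶ X') (iY : Y ⟶ Y') (iB : B ⟶ B')
  (f : X ⟶ Y) (f' : X' ⟶ Y') (g : Y ⟶ B) (g' : Y' ⟶ B')

include iX iY iB g g' in
theorem repWith_isOpenImmersion_of_thick
    (hcX : IsPullback iX.hom (f ≫ g).hom (f' ≫ g').hom iB.hom)
    (hcY : IsPullback iY.hom g.hom g'.hom iB.hom) (w : iX ≫ f' = f ≫ iY)
    (hB : AlgSp.IsThickMor iB.hom) (hg' : AlgSp.LocP @LocallyOfFiniteType g'.hom)
    (hflat : AlgSp.LocP @Flat (f' ≫ g').hom)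
    (hfp : AlgSp.LocP @LocallyOfFinitePresentation (f' ≫ g').hom)
    (hf : RepWith @IsOpenImmersion f.hom) : RepWith @IsOpenImmersion f'.hom := by
  have hiX : AlgSp.IsThickMor iX.hom := Groth.Agent.H53.isThickMor_of_isPullback hcX.flip hB
  have hiY : AlgSp.IsThickMor iY.hom := Groth.Agent.H53.isThickMor_of_isPullback hcY.flip hB
  have het : IsEtaleMor f.hom := Groth.Agent.H53.isEtaleMor_of_isOpenImmersion f.hom hf
  have het' : IsEtaleMor f'.hom :=
    ((Groth.Agent.S10599.result iX iY iB f f' g g' hcX hcY w hB hg' hflat hfp 0).2.2.2.2.2).1 het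
  have hm : Mono f.hom := Groth.Agent.H53.mono_of_isOpenImmersion f.hom hf
  have hui : IsUnivInjectiveMor f.hom :=
    Groth.Agent.H53.ZMT.isUnivInjectiveMor_of_mono X.property f.hom
  have hui' : IsUnivInjectiveMor f'.hom :=
    ((Groth.Agent.S10587.result iX iY f f' hiX hiY w).2.2.2.1).1 hui
  exact Groth.Agent.H51.s10261 f' het' hui'

include iX iY iB g g' in
theorem isIso_of_thick
    (hcX : IsPullback iX.hom (f ≫ g).hom (f' ≫ g').hom iB.hom)
    (hcY : IsPullback iY.hom g.hom g'.hom iB.hom) (w : iX ≫ f' = f ≫ iY)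
    (hB : AlgSp.IsThickMor iB.hom) (hg' : AlgSp.LocP @LocallyOfFiniteType g'.hom)
    (hflat : AlgSp.LocP @Flat (f' ≫ g').hom)
    (hfp : AlgSp.LocP @LocallyOfFinitePresentation (f' ≫ g').hom)
    (hf : IsIso f.hom) : IsIso f'.hom := by
  have hiX : AlgSp.IsThickMor iX.hom := Groth.Agent.H53.isThickMor_of_isPullback hcX.flip hB
  have hiY : AlgSp.IsThickMor iY.hom := Groth.Agent.H53.isThickMor_of_isPullback hcY.flip hB
  have hoi : RepWith @IsOpenImmersion f.hom :=
    MorphismProperty.of_isIso (RepWith @IsOpenImmersion) f.hom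
  have hoi' := repWith_isOpenImmersion_of_thick iX iY iB f f' g g' hcX hcY w hB hg' hflat hfp hoi
  have hs : IsSurjectiveMor f.hom := by
    intro y
    refine ⟨Points.map (inv f.hom) y, ?_⟩
    rw [← Points.map_comp, IsIso.inv_hom_id, Points.map_id]
  have hs' : IsSurjectiveMor f'.hom :=
    ((Groth.Agent.S10587.result iX iY f f' hiX hiY w).1).1 hs
  exact Groth.Agent.H51.isIso_of_isOpenImmersion_of_surjective f'.hom hoi' hs'

include iX iY iB g g' in
theorem mono_of_thick
    (hcX : IsPullback iX.hom (f ≫ g).hom (f' ≫ g').hom iB.hom)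
    (hcY : IsPullback iY.hom g.hom g'.hom iB.hom) (w : iX ≫ f' = f ≫ iY)
    (hB : AlgSp.IsThickMor iB.hom)
    (hflat : AlgSp.LocP @Flat (f' ≫ g').hom)
    (hfp : AlgSp.LocP @LocallyOfFinitePresentation (f' ≫ g').hom)
    (hf : Mono f.hom) : Mono f'.hom := by
  have w' : iX.hom ≫ f'.hom = f.hom ≫ iY.hom := congrArg (fun t => t.hom) w
  have hcart : IsPullback iX.hom f.hom f'.hom iY.hom :=
    (IsPullback.of_right hcX.flip w'.symm hcY.flip).flip
  have sqP := IsPullback.of_hasPullback f.hom f.hom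
  have sqP' := IsPullback.of_hasPullback f'.hom f'.hom
  have hPalg : IsAlgSpace (pullback f.hom f.hom) :=
    Groth.Agent.H49.isAlgSpace_of_isPullback sqP Y.property.diag X.property X.property
  have hP'alg : IsAlgSpace (pullback f'.hom f'.hom) :=
    Groth.Agent.H49.isAlgSpace_of_isPullback sqP' Y'.property.diag X'.property X'.property
  let P : AlgSp.Space S := ⟨pullback f.hom f.hom, hPalg⟩
  let P' : AlgSp.Space S := ⟨pullback f'.hom f'.hom, hP'alg⟩
  let iP : P ⟶ P' := ObjectProperty.homMk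
    (pullback.map f.hom f.hom f'.hom f'.hom iX.hom iX.hom iY.hom hcart.w.symm hcart.w.symm)
  let Δ : X ⟶ P := ObjectProperty.homMk (pullback.diagonal f.hom)
  let Δ' : X' ⟶ P' := ObjectProperty.homMk (pullback.diagonal f'.hom)
  let gP : P ⟶ B := ObjectProperty.homMk ((pullback.fst f.hom f.hom ≫ f.hom) ≫ g.hom)
  let gP' : P' ⟶ B' := ObjectProperty.homMk ((pullback.fst f'.hom f'.hom ≫ f'.hom) ≫ g'.hom)
  have hcP : IsPullback iP.hom gP.hom gP'.hom iB.hom :=
    (Groth.Agent.H53.Deform.isPullback_kernelPair_map hcart).paste_vert hcY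
  have e1 : (Δ ≫ gP).hom = (f ≫ g).hom := by
    show pullback.diagonal f.hom ≫ (pullback.fst f.hom f.hom ≫ f.hom) ≫ g.hom = f.hom ≫ g.hom
    simp
  have e2 : (Δ' ≫ gP').hom = (f' ≫ g').hom := by
    show pullback.diagonal f'.hom ≫ (pullback.fst f'.hom f'.hom ≫ f'.hom) ≫ g'.hom =
      f'.hom ≫ g'.hom
    simp
  have hcX' : IsPullback iX.hom (Δ ≫ gP).hom (Δ' ≫ gP').hom iB.hom := by
    rw [e1, e2]; exact hcX
  have wΔ : iX ≫ Δ' = Δ ≫ iP := by
    apply ObjectProperty.hom_ext
    show iX.hom ≫ pullback.diagonal f'.hom = pullback.diagonal f.hom ≫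
      pullback.map f.hom f.hom f'.hom f'.hom iX.hom iX.hom iY.hom hcart.w.symm hcart.w.symm
    apply pullback.hom_ext
    · rw [Category.assoc, Category.assoc, pullback.diagonal_fst]
      erw [pullback.lift_fst]
      rw [← Category.assoc, pullback.diagonal_fst, Category.comp_id, Category.id_comp]
    · rw [Category.assoc, Category.assoc, pullback.diagonal_snd]
      erw [pullback.lift_snd]
      rw [← Category.assoc, pullback.diagonal_snd, Category.comp_id, Category.id_comp]
  have hflat' : AlgSp.LocP @Flat (Δ' ≫ gP').hom := by rw [e2]; exact hflat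
  have hfp' : AlgSp.LocP @LocallyOfFinitePresentation (Δ' ≫ gP').hom := by rw [e2]; exact hfp
  -- `P' ⟶ B'` is locally of finite type
  have hlft1 : AlgSp.LocP @LocallyOfFiniteType (f' ≫ g').hom := by
    intro U V a b h ha hb e
    have : LocallyOfFinitePresentation h.left := hfp a b h ha hb e
    infer_instance
  have hft' : AlgSp.LocP @LocallyOfFiniteType f'.hom :=
    Groth.Agent.H50.locP_lft_of_comp B'.property f'.hom g'.hom hlft1
  have hfst : AlgSp.LocP @LocallyOfFiniteType (pullback.fst f'.hom f'.hom) :=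
    Groth.Agent.H50.goodClass_lft.locP_of_isPullback X'.property Y'.property X'.property
      f'.hom f'.hom (pullback.snd f'.hom f'.hom) (pullback.fst f'.hom f'.hom) sqP'.flip hft'
  have hgP' : AlgSp.LocP @LocallyOfFiniteType gP'.hom := by
    show AlgSp.LocP @LocallyOfFiniteType ((pullback.fst f'.hom f'.hom ≫ f'.hom) ≫ g'.hom)
    rw [Category.assoc]
    exact Groth.Agent.H50.goodClass_lft.locP_comp X'.property _ _ hfst hlft1
  have hΔ : IsIso Δ.hom := by
    show IsIso (pullback.diagonal f.hom)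
    infer_instance
  have hΔ' : IsIso (pullback.diagonal f'.hom) :=
    isIso_of_thick iX iP iB Δ Δ' gP gP' hcX' hcP wΔ hB hgP' hflat' hfp' hΔ
  have : IsIso (pullback.fst f'.hom f'.hom) := by
    have h1 : IsIso (pullback.diagonal f'.hom ≫ pullback.fst f'.hom f'.hom) := by
      rw [pullback.diagonal_fst]; infer_instance
    exact IsIso.of_isIso_comp_left (pullback.diagonal f'.hom) _
  exact IsKernelPair.mono_of_isIso_fst sqP'

include iX iY iB g g' in
theorem isFinLocFreeMor_of_thick
    (hcX : IsPullback iX.hom (f ≫ g).hom (f' ≫ g').hom iB.hom)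
    (hcY : IsPullback iY.hom g.hom g'.hom iB.hom) (w : iX ≫ f' = f ≫ iY)
    (hB : AlgSp.IsThickMor iB.hom) (hg' : AlgSp.LocP @LocallyOfFiniteType g'.hom)
    (hflat : AlgSp.LocP @Flat (f' ≫ g').hom)
    (hfp : AlgSp.LocP @LocallyOfFinitePresentation (f' ≫ g').hom)
    (hf : IsFinLocFreeMor f.hom) : IsFinLocFreeMor f'.hom := by
  have hiX : AlgSp.IsThickMor iX.hom := Groth.Agent.H53.isThickMor_of_isPullback hcX.flip hB
  have hiY : AlgSp.IsThickMor iY.hom := Groth.Agent.H53.isThickMor_of_isPullback hcY.flip hB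
  have w' : iX.hom ≫ f'.hom = f.hom ≫ iY.hom := congrArg (fun t => t.hom) w
  have hcart : IsPullback iX.hom f.hom f'.hom iY.hom :=
    (IsPullback.of_right hcX.flip w'.symm hcY.flip).flip
  -- properties of `f`
  have hsep : IsSeparatedMor f.hom :=
    (Groth.Agent.H49.repWith_diagonal_iff @IsClosedImmersion f.hom hf.1).2
      (Groth.Agent.H49.repWith_of_le
        Groth.Agent.H53.Deform.finLocFree_le_diagonal_isClosedImmersion hf)
  have hqf : LocP (@LocallyQuasiFinite ⊓ @LocallyOfFiniteType) f.hom := by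
    have := Groth.Agent.H50.goodClass_lqf.{u}.comp
    refine Groth.Agent.H50.locP_of_repWith _ Groth.Agent.H50.goodClass_lqf.etale_le f.hom
      (Groth.Agent.H49.repWith_of_le ?_ hf)
    intro A B k hk
    have : IsFinite k := hk.1
    exact ⟨inferInstance, inferInstance⟩
  have hfl : LocP @Flat f.hom := by
    refine Groth.Agent.H50.locP_of_repWith _ Groth.Agent.H50.goodClass_flat.etale_le f.hom
      (Groth.Agent.H49.repWith_of_le ?_ hf)
    intro A B k hk
    exact hk.2.1
  -- transfer to `f'`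
  have H := Groth.Agent.S10599.result iX iY iB f f' g g' hcX hcY w hB hg' hflat hfp 0
  have hfl' : LocP @Flat f'.hom := H.2.1.1 hfl
  have hqf' : LocP (@LocallyQuasiFinite ⊓ @LocallyOfFiniteType) f'.hom := H.2.2.1.1 hqf
  have hfp' : LocP @LocallyOfFinitePresentation f'.hom :=
    Groth.Agent.H50.locP_of_comp_cancel @LocallyOfFinitePresentation @LocallyOfFiniteType
      (fun h k hhk hk => Groth.Agent.H50.locallyOfFinitePresentation_of_comp h k hhk hk)
      (fun h v u h' sq hv hvs hP => Groth.Agent.H50.goodClass_lfp.desc h v u h' sq hv hvs hP)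
      B'.property f'.hom g'.hom hfp hg'
  have hsep' : IsSeparatedMor f'.hom :=
    ((Groth.Agent.S10589.result iX iY f f' hiX hiY w).1).1 hsep
  -- `f'` is representable
  have hrep : Representable f'.hom := by
    intro V' b'
    have sqF := IsPullback.of_hasPullback f'.hom b'
    have hFalg : IsAlgSpace (pullback f'.hom b') :=
      Groth.Agent.H49.isAlgSpace_of_isPullback sqF Y'.property.diag X'.property
        (IsAlgSpace.yon_obj V')
    have hsepF : IsSeparatedMor (pullback.snd f'.hom b') :=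
      Groth.Agent.H53.ZMT.isSeparatedMor_of_isPullback sqF hsep'
    have hqfF : LocP (@LocallyQuasiFinite ⊓ @LocallyOfFiniteType) (pullback.snd f'.hom b') :=
      Groth.Agent.H50.goodClass_lqf.locP_of_isPullback X'.property Y'.property
        (IsAlgSpace.yon_obj V') f'.hom b' (pullback.fst f'.hom b') (pullback.snd f'.hom b') sqF hqf'
    obtain ⟨G, ⟨e⟩⟩ := Groth.Agent.H53.ZMT.exists_iso_yon_of_lqf_separated hFalg
      (pullback.snd f'.hom b') hsepF hqfF
    obtain ⟨φ, hφ⟩ := (yon S).map_surjective (e.hom ≫ pullback.snd f'.hom b')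
    refine ⟨G, φ, e.hom ≫ pullback.fst f'.hom b', ?_⟩
    rw [hφ]
    exact IsPullback.of_iso sqF e.symm (Iso.refl _) (Iso.refl _) (Iso.refl _) (by simp) (by simp)
      (by simp) (by simp)
  have hR1 : RepWith @Flat f'.hom :=
    Groth.Agent.H50.goodClass_flat.repWith_of_locP Y'.property f'.hom hrep hfl'
  have hR2 : RepWith @LocallyOfFinitePresentation f'.hom :=
    Groth.Agent.H50.goodClass_lfp.repWith_of_locP Y'.property f'.hom hrep hfp'
  rw [IsFinLocFreeMor, repWith_iff]
  refine ⟨hrep, ?_⟩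
  intro U'' V' b' a'' h'' sq'
  have h1 : Flat h''.left := hR1.property b' a'' h'' sq'
  have h2 : LocallyOfFinitePresentation h''.left := hR2.property b' a'' h'' sq'
  obtain ⟨U, V, iU, iV, h, aU, bV, hiU, hiV, top, face⟩ :=
    Groth.Agent.H53.Deform.exists_thin_square hiX hiY hcart a'' b' h'' sq'
  have h3 : finLocFree h.left := hf.property bV aU h top
  have h4 : IsFinite h.left := h3.1
  have h5 : IsIntegralHom h''.left :=
    (Groth.Agent.S1305.result iU.left iV.left h.left h''.left hiU hiV face.w).1 inferInstance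
  have h6 : IsFinite h''.left :=
    (IsFinite.iff_isIntegralHom_and_locallyOfFiniteType _).2 ⟨h5, inferInstance⟩
  exact ⟨h6, h1, h2⟩

include iX iY iB g g' in
theorem isFinLocFreeOfDegMor_of_thick (d : ℕ)
    (hcX : IsPullback iX.hom (f ≫ g).hom (f' ≫ g').hom iB.hom)
    (hcY : IsPullback iY.hom g.hom g'.hom iB.hom) (w : iX ≫ f' = f ≫ iY)
    (hB : AlgSp.IsThickMor iB.hom) (hg' : AlgSp.LocP @LocallyOfFiniteType g'.hom)
    (hflat : AlgSp.LocP @Flat (f' ≫ g').hom)
    (hfp : AlgSp.LocP @LocallyOfFinitePresentation (f' ≫ g').hom)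
    (hf : IsFinLocFreeOfDegMor d f.hom) : IsFinLocFreeOfDegMor d f'.hom := by
  have hiX : AlgSp.IsThickMor iX.hom := Groth.Agent.H53.isThickMor_of_isPullback hcX.flip hB
  have hiY : AlgSp.IsThickMor iY.hom := Groth.Agent.H53.isThickMor_of_isPullback hcY.flip hB
  have w' : iX.hom ≫ f'.hom = f.hom ≫ iY.hom := congrArg (fun t => t.hom) w
  have hcart : IsPullback iX.hom f.hom f'.hom iY.hom :=
    (IsPullback.of_right hcX.flip w'.symm hcY.flip).flip
  have hf0 : IsFinLocFreeMor f.hom :=
    Groth.Agent.H49.repWith_of_le (fun _ _ k hk => hk.1) hf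
  have hf0' : IsFinLocFreeMor f'.hom :=
    isFinLocFreeMor_of_thick iX iY iB f f' g g' hcX hcY w hB hg' hflat hfp hf0
  rw [IsFinLocFreeOfDegMor, repWith_iff]
  refine ⟨hf0'.1, ?_⟩
  intro U'' V' b' a'' h'' sq'
  have h1 : finLocFree h''.left := hf0'.property b' a'' h'' sq'
  refine ⟨h1, fun y => ?_⟩
  obtain ⟨U, V, iU, iV, h, aU, bV, hiU, hiV, top, face⟩ :=
    Groth.Agent.H53.Deform.exists_thin_square hiX hiY hcart a'' b' h'' sq'
  have h3 : finLocFreeOfDeg d h.left := hf.property bV aU h top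
  have : IsFinite h''.left := h1.1
  have : Flat h''.left := h1.2.1
  have hs : Surjective iV.left := hiV.2
  obtain ⟨v, rfl⟩ := hs.surj y
  rw [← Scheme.Hom.finrank_of_isPullback iU.left h.left h''.left iV.left face v]
  exact h3.2 v

end Groth.Agent.H53.DeformFP
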